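import Groth.Agent.CohProp.K635.Nice
import Groth.Agent.EtAcyc.K548.GenGood
import Groth.Agent.Pi1C.StrictHensConn
import Groth.Agent.Sga1.UlaSL
import Groth.Agent.Etrest.VCBaseChange
import Groth.Agent.S14401
import Groth.Agent.S2121

/-!
# Clopen subsets of the open part of a nice pair extend

For a nice pair `O ⊆ W` over `S` (flat, locally of finite presentation, geometrically normal fibres, `O` retrocompact
and fibrewise dense) every clopen subset of `O` is the trace of a clopen subset of `W` (`main`).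
-/

set_option autoImplicit false
universe u

open CategoryTheory CategoryTheory.Limits AlgebraicGeometry Opposite IsLocalRing

namespace K649.NodeB

open Groth.Agent.Etrest.StrictLoc Groth.Agent.Sga1.UlaSL K548.Good K635.NP

/-- Schemes with integral local rings are locally irreducible. -/
theorem exists_irr_nhd {X : Scheme.{u}} [IsLocallyNoetherian X] (h : ∀ x : X, IsDomain (X.presheaf.stalk x)) (x : X) :
    ∃ N : Set X, IsOpen N ∧ x ∈ N ∧ IsPreirreducible N := by
  obtain ⟨U, hU, hx, -⟩ := exists_isAffineOpen_mem_and_subset (show x ∈ (⊤ : X.Opens) from trivial)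
  have : IsAffine U := hU
  have hN : IsNoetherian U.toScheme := { }
  have hst : ∀ y : U, IsDomain (U.toScheme.presheaf.stalk y) := fun y => by
    have := h (U.ι y)
    have h5 : IsIso (U.ι.stalkMap y) := inferInstance
    exact MulEquiv.isDomain _ (asIso (U.ι.stalkMap y)).commRingCatIsoToRingEquiv.symm.toMulEquiv
  obtain ⟨h1, h2⟩ := Groth.Agent.S14401.result U.toScheme hst
  obtain ⟨Z, ⟨hZ, hxZ⟩, -⟩ := h2 ⟨x, hx⟩
  refine ⟨U.ι '' Z, U.ι.isOpenEmbedding.isOpenMap _ (h1 Z hZ), ⟨⟨x, hx⟩, hxZ, rfl⟩, ?_⟩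
  exact (hZ.1.image _ U.ι.continuous.continuousOn).isPreirreducible

theorem disjoint_closure {X : Type*} [TopologicalSpace X]
    (hX : ∀ x : X, ∃ N : Set X, IsOpen N ∧ x ∈ N ∧ IsPreirreducible N) {C E : Set X} (hC : IsOpen C)
    (hE : IsOpen E) (hd : Disjoint C E) : Disjoint (closure C) (closure E) := by
  rw [Set.disjoint_left]
  intro x hx hx'
  obtain ⟨N, hN, hxN, hirr⟩ := hX x
  have h1 := mem_closure_iff.1 hx N hN hxN
  have h2 := mem_closure_iff.1 hx' N hN hxN
  obtain ⟨y, -, hy1, hy2⟩ := hirr C E hC hE h1 h2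
  exact Set.disjoint_left.1 hd hy1 hy2

variable {W S : Scheme.{u}} {w : W ⟶ S} {O : W.Opens}

theorem geometricallyReduced (h : Nice w O) : GeometricallyReduced w := by
  refine ⟨fun K _ y Z a b hP => ?_⟩
  have h1 : ∀ x : ↥(pullback w y), _root_.IsReduced ((pullback w y).presheaf.stalk x) := fun x => by
    have := (h.normal K y x).1
    infer_instance
  have h2 : IsReduced (pullback w y) := isReduced_of_isReduced_stalk _
  exact isReduced_of_isOpenImmersion hP.isoPullback.hom

theorem flat_spm [Flat w] {A B : Type u} [CommRing A] [IsLocalRing A] [CommRing B] [IsLocalRing B]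
    {τ : Spec (CommRingCat.of A) ⟶ S} {σ : Spec (CommRingCat.of B) ⟶ W} (hτ : IsStrictLoc τ)
    (hσ : IsStrictLoc σ) (β : A →+* B) (hc : spm β ≫ τ = σ ≫ w) : Flat (spm β) := by
  have w1 : WeaklyEtale τ := weaklyEtale_of_isStrictLoc hτ
  have w2 : WeaklyEtale σ := weaklyEtale_of_isStrictLoc hσ
  let m : Spec (CommRingCat.of B) ⟶ pullback w τ := pullback.lift σ (spm β) hc.symm
  have hm1 : m ≫ pullback.fst w τ = σ := pullback.lift_fst _ _ _
  have hm2 : m ≫ pullback.snd w τ = spm β := pullback.lift_snd _ _ _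
  have w3 : WeaklyEtale (m ≫ pullback.fst w τ) := by rw [hm1]; exact w2
  have w4 : WeaklyEtale m := WeaklyEtale.of_comp m (pullback.fst w τ)
  rw [← hm2]
  infer_instance

/-- Two points of a Milnor fibre do not lie in different parts. -/
theorem false_of_fibre (h : Nice w O) {C E : Set W} (hC : IsOpen C) (hE : IsOpen E)
    (hCE : C ∪ E = O) (hd : Disjoint C E) (hg : IsGood w)
    {A B : Type u} [CommRing A] [IsLocalRing A] [CommRing B] [IsLocalRing B]
    {τ : Spec (CommRingCat.of A) ⟶ S} {σ : Spec (CommRingCat.of B) ⟶ W} (hτ : IsStrictLoc τ)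
    (hσ : IsStrictLoc σ) (β : A →+* B) (hβ : IsLocalHom β) (hc : spm β ≫ τ = σ ≫ w)
    (y y' : Spec (CommRingCat.of B)) (hy : spm β y = spm β y') (h1 : σ y ∈ C) (h2 : σ y' ∈ E) : False := by
  obtain ⟨-, hconn⟩ := hg w (𝟙 _) (𝟙 _) IsPullback.of_id_fst A B _ _ hτ hσ β hβ hc
  obtain ⟨Ω, _, _, ξ, hξ⟩ := Groth.Agent.Sga4A.EtStalk.exists_geomPoint _ (spm β y)
  have hT := hconn Ω ξ
  obtain ⟨z, -, hz⟩ := Scheme.Pullback.exists_preimage_pullback (default : Spec (CommRingCat.of Ω)) y hξ
  obtain ⟨z', -, hz'⟩ := Scheme.Pullback.exists_preimage_pullback (default : Spec (CommRingCat.of Ω)) y'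
    (hξ.trans hy)
  let F := pullback w (ξ ≫ τ)
  have := h.lfp
  have hF : IsLocallyNoetherian F := LocallyOfFiniteType.isLocallyNoetherian (pullback.snd w (ξ ≫ τ))
  let r : pullback ξ (spm β) ⟶ F := pullback.lift (pullback.snd ξ (spm β) ≫ σ) (pullback.fst ξ (spm β))
    (by rw [Category.assoc, ← hc, pullback.condition_assoc])
  have hr : r ≫ pullback.fst w (ξ ≫ τ) = pullback.snd ξ (spm β) ≫ σ := pullback.lift_fst _ _ _
  let C' : Set F := pullback.fst w (ξ ≫ τ) ⁻¹' C
  let E' : Set F := pullback.fst w (ξ ≫ τ) ⁻¹' E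
  have hC' : IsOpen C' := hC.preimage (pullback.fst w (ξ ≫ τ)).continuous
  have hE' : IsOpen E' := hE.preimage (pullback.fst w (ξ ≫ τ)).continuous
  have hd' : Disjoint C' E' := hd.preimage _
  have hdisj : Disjoint (closure C') (closure E') :=
    disjoint_closure (exists_irr_nhd fun x => (h.normal Ω (ξ ≫ τ) x).1) hC' hE' hd'
  have hun : closure C' ∪ closure E' = Set.univ := by
    rw [← closure_union]
    have h3 : C' ∪ E' = ((pullback.fst w (ξ ≫ τ) ⁻¹ᵁ O : (pullback w (ξ ≫ τ)).Opens) :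
        Set ↥(pullback w (ξ ≫ τ))) := by
      change pullback.fst w (ξ ≫ τ) ⁻¹' C ∪ pullback.fst w (ξ ≫ τ) ⁻¹' E = _
      rw [← Set.preimage_union, hCE]
      rfl
    rw [h3]
    exact (h.dense Ω (ξ ≫ τ)).closure_eq
  have hcl : IsClopen (closure C') := by
    refine ⟨isClosed_closure, ?_⟩
    have : closure C' = (closure E')ᶜ := by
      apply Set.Subset.antisymm
      · exact hdisj.subset_compl_right
      · intro x hx
        have h4 : x ∈ closure C' ∪ closure E' := by rw [hun]; trivial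
        exact h4.resolve_right hx
    rw [this]
    exact isClosed_closure.isOpen_compl
  have hcl' : IsClopen (r ⁻¹' closure C') := hcl.preimage r.continuous
  have hrz : ∀ t, (pullback.fst w (ξ ≫ τ)) (r t) = σ (pullback.snd ξ (spm β) t) := fun t => by
    rw [← Scheme.Hom.comp_apply, hr, Scheme.Hom.comp_apply]
  have hall := hcl'.eq_univ ⟨z, subset_closure (show (pullback.fst w (ξ ≫ τ)) (r z) ∈ C by
    rw [hrz, hz]; exact h1)⟩
  have h5 : r z' ∈ closure C' := by
    have : z' ∈ r ⁻¹' closure C' := by rw [hall]; trivial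
    exact this
  have h6 : r z' ∈ closure E' := subset_closure (show (pullback.fst w (ξ ≫ τ)) (r z') ∈ E by
    rw [hrz, hz']; exact h2)
  exact Set.disjoint_left.1 hdisj h5 h6

/-- Points of `O` near `v` in the fibre. -/
theorem exists_special (h : Nice w O) (v : W) : ∃ o ∈ O, o ⤳ v ∧ w o = w v := by
  let i := S.fromSpecResidueField (w v)
  have := h.lfp
  have hF : IsLocallyNoetherian (pullback w i) := LocallyOfFiniteType.isLocallyNoetherian (pullback.snd w i)
  obtain ⟨p, hp⟩ : ∃ p, i p = w v := ⟨closedPoint _, Scheme.fromSpecResidueField_apply _ _⟩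
  obtain ⟨v', hv', -⟩ := Scheme.Pullback.exists_preimage_pullback v p hp.symm
  have hd := h.dense (S.residueField (w v)) i
  obtain ⟨ξ, hs⟩ := Groth.Agent.S2121.exists_specializes (pullback.fst w i ⁻¹ᵁ O).ι v' (by
    have : Set.range (pullback.fst w i ⁻¹ᵁ O).ι.base = ((pullback.fst w i ⁻¹ᵁ O : (pullback w i).Opens) :
        Set ↥(pullback w i)) := Scheme.Opens.range_ι _
    rw [this]
    exact hd v')
  refine ⟨pullback.fst w i ((pullback.fst w i ⁻¹ᵁ O).ι ξ), ξ.2, ?_, ?_⟩
  · have h6 := hs.map (pullback.fst w i).continuous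
    rwa [hv'] at h6
  · rw [← Scheme.Hom.comp_apply, pullback.condition, Scheme.Hom.comp_apply]
    exact Scheme.fromSpecResidueField_apply _ _

theorem exists_spec (h : Nice w O) {C E : Set W} (hC : IsOpen C) (hE : IsOpen E)
    (hCE : C ∪ E = O) (hd : Disjoint C E) {v : W} (hv : v ∈ closure C) : ∃ c ∈ C, c ⤳ v := by
  let U : W.Opens := ⟨C, hC⟩
  have hqO := h.qc
  have hq : QuasiCompact U.ι := by
    refine ⟨fun V hV hVc => ?_⟩
    have h1 : IsCompact (O.ι ⁻¹' V) := hqO.isCompact_preimage V hV hVc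
    have h2 : IsCompact (O.ι '' (O.ι ⁻¹' V)) := h1.image O.ι.continuous
    rw [Set.image_preimage_eq_inter_range, Scheme.Opens.range_ι] at h2
    have h3 : IsCompact (U.ι '' (U.ι ⁻¹' V)) := by
      rw [Set.image_preimage_eq_inter_range, Scheme.Opens.range_ι]
      have h4 : V ∩ (U : Set W) = (V ∩ (O : Set W)) \ E := by
        rw [← hCE]
        ext x
        constructor
        · rintro ⟨hx, hxU⟩
          exact ⟨⟨hx, Or.inl hxU⟩, fun hxE => Set.disjoint_left.1 hd hxU hxE⟩
        · rintro ⟨⟨hx, hxU⟩, hxE⟩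
          exact ⟨hx, hxU.resolve_right hxE⟩
      rw [h4]
      exact h2.diff hE
    exact U.ι.isOpenEmbedding.isInducing.isCompact_iff.2 h3
  have hv' : v ∈ closure (Set.range U.ι.base) := by
    have : Set.range U.ι.base = C := Scheme.Opens.range_ι U
    rw [this]
    exact hv
  obtain ⟨x, hx⟩ := Groth.Agent.S2121.exists_specializes U.ι v hv'
  exact ⟨U.ι x, x.2, hx⟩

/-- The closures of the two parts are disjoint. -/
theorem disjoint (h : Nice w O) {C E : Set W} (hC : IsOpen C) (hE : IsOpen E)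
    (hCE : C ∪ E = O) (hd : Disjoint C E) : Disjoint (closure C) (closure E) := by
  have := h.lfp
  have := h.flat
  have := geometricallyReduced h
  have hg : IsGood w := K548.GenGood.isGood_of_flat w
  rw [Set.disjoint_left]
  intro v hvC hvE
  obtain ⟨c, hcC, hcv⟩ := exists_spec h hC hE hCE hd hvC
  obtain ⟨e, heE, hev⟩ := exists_spec h hE hC (by rw [Set.union_comm]; exact hCE) hd.symm hvE
  obtain ⟨o, hoO, hov, hwo⟩ := exists_special h v
  obtain ⟨B, _, _, σ, hσ, hσv⟩ := exists_isStrictLoc W v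
  obtain ⟨A, _, _, τ, hτ, hτv⟩ := exists_isStrictLoc S (w v)
  have := hσ.henselian
  have := hσ.sepClosed
  obtain ⟨β, hβ, hc⟩ := Groth.Agent.Etrest.VCBaseChange.exists_map hτ (σ ≫ w) (by
    rw [Scheme.Hom.comp_apply, hσv, hτv])
  have hfl : Flat (spm β) := flat_spm hτ hσ β hc
  have wσ : WeaklyEtale σ := weaklyEtale_of_isStrictLoc hσ
  have hlift : ∀ z : W, z ⤳ v → ∃ q, σ q = z := fun z hz => by
    have h7 : z ⤳ σ (closedPoint B) := by rw [hσv]; exact hz
    obtain ⟨q, -, hq⟩ := Flat.generalizingMap σ h7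
    exact ⟨q, hq⟩
  obtain ⟨c', rfl⟩ := hlift c hcv
  obtain ⟨e', rfl⟩ := hlift e hev
  obtain ⟨o', rfl⟩ := hlift o hov
  have ho0 : spm β o' = closedPoint A := by
    by_contra hne
    have h1 : τ (spm β o') = w v := by
      rw [← Scheme.Hom.comp_apply, hc, Scheme.Hom.comp_apply]
      exact hwo
    obtain ⟨_, _, _, hCτ⟩ := exists_specOf hτ (w v) hτv
    refine hne (Groth.Agent.Pi1C.StrictHensConn.eq_closedPoint_of_specOf_eq S (w v) A (spm β o') ?_)
    rw [hCτ]
    exact h1
  have hgo : ∀ t : Spec (CommRingCat.of A), ∃ y : Spec (CommRingCat.of B), y ⤳ o' ∧ spm β y = t := fun t => by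
    have h7 : t ⤳ spm β o' := by rw [ho0]; exact IsLocalRing.specializes_closedPoint _
    obtain ⟨y, hy1, hy2⟩ := Flat.generalizingMap (spm β) h7
    exact ⟨y, hy1, hy2⟩
  have hoCE : σ o' ∈ C ∪ E := by rw [hCE]; exact hoO
  rcases hoCE with ho | ho
  · obtain ⟨y, hy1, hy2⟩ := hgo (spm β e')
    have h1 : σ y ∈ C := (hy1.map σ.continuous).mem_open hC ho
    exact false_of_fibre h hC hE hCE hd hg hτ hσ β hβ hc y e' hy2 h1 heE
  · obtain ⟨y, hy1, hy2⟩ := hgo (spm β c')
    have h1 : σ y ∈ E := (hy1.map σ.continuous).mem_open hE ho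
    exact false_of_fibre h hC hE hCE hd hg hτ hσ β hβ hc c' y hy2.symm hcC h1

/-- **NODE B.** -/
theorem main {W S : Scheme.{u}} (w : W ⟶ S) (O : W.Opens) (h : K635.NP.Nice w O) (C : Set W) (hC : IsOpen C)
    (hCO : C ⊆ O) (hC' : IsOpen ((O : Set W) \ C)) : ∃ D : Set W, IsClopen D ∧ D ∩ O = C := by
  have hCE : C ∪ ((O : Set W) \ C) = O := Set.union_sdiff_cancel hCO
  have hd := disjoint h hC hC' hCE Set.disjoint_sdiff_right
  have hO : closure (O : Set W) = Set.univ := by
    rw [Set.eq_univ_iff_forall]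
    intro v
    obtain ⟨o, ho, hov, -⟩ := exists_special h v
    exact hov.mem_closed isClosed_closure (subset_closure ho)
  have hun : closure C ∪ closure ((O : Set W) \ C) = Set.univ := by
    rw [← closure_union, hCE, hO]
  refine ⟨closure C, ⟨isClosed_closure, ?_⟩, ?_⟩
  · have : closure C = (closure ((O : Set W) \ C))ᶜ := by
      apply Set.Subset.antisymm
      · exact hd.subset_compl_right
      · intro x hx
        have h4 : x ∈ closure C ∪ closure ((O : Set W) \ C) := by rw [hun]; trivial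
        exact h4.resolve_right hx
    rw [this]
    exact isClosed_closure.isOpen_compl
  · apply Set.Subset.antisymm
    · rintro x ⟨hx, hxO⟩
      by_contra hne
      exact Set.disjoint_left.1 hd hx (subset_closure ⟨hxO, hne⟩)
    · intro x hx
      exact ⟨subset_closure hx, hCO hx⟩

end K649.NodeB
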